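import Mathlib
import Groth.Agent.Lib.RingedPush4.Sections

/-!
# A criterion for a square of presheafed spaces to be a pushout
-/

universe u

open CategoryTheory CategoryTheory.Limits AlgebraicGeometry Opposite TopologicalSpace

namespace GrothLib.RingedPush29

variable {A B C D : PresheafedSpace.{_, _, u} CommRingCat.{u}}

theorem obj_map_eq {f : A ⟶ B} {g : A ⟶ C} {p : B ⟶ D} {q : C ⟶ D} (w : f ≫ p = g ≫ q) (U : Opens D.carrier) :
    op ((Opens.map f.base).obj ((Opens.map p.base).obj U)) =
      op ((Opens.map g.base).obj ((Opens.map q.base).obj U)) := by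
  have := congrArg PresheafedSpace.Hom.base w
  simp only [PresheafedSpace.comp_base] at this
  exact congrArg (fun t => op ((Opens.map t).obj U)) this

/-- A pair of sections over the two inverse images of `U` with the same image on the corner. -/
def Compat {f : A ⟶ B} {g : A ⟶ C} {p : B ⟶ D} {q : C ⟶ D} (w : f ≫ p = g ≫ q) (U : Opens D.carrier)
    (b : B.presheaf.obj (op ((Opens.map p.base).obj U))) (c : C.presheaf.obj (op ((Opens.map q.base).obj U))) :
    Prop :=
  A.presheaf.map (eqToHom (obj_map_eq w U)) (f.c.app _ b) = g.c.app _ c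

theorem compat_app {f : A ⟶ B} {g : A ⟶ C} {p : B ⟶ D} {q : C ⟶ D} (w : f ≫ p = g ≫ q) (U : Opens D.carrier)
    (y : D.presheaf.obj (op U)) : Compat w U (p.c.app (op U) y) (q.c.app (op U) y) := by
  have h := congrArg (fun m => m y) (PresheafedSpace.congr_app w.symm (op U))
  exact h.symm

theorem isPushout_of_sections {f : A ⟶ B} {g : A ⟶ C} {p : B ⟶ D} {q : C ⟶ D} (w : f ≫ p = g ≫ q)
    (htop : IsPushout f.base g.base p.base q.base)
    (hsec : ∀ (U : Opens D.carrier) (b : B.presheaf.obj (op ((Opens.map p.base).obj U)))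
      (c : C.presheaf.obj (op ((Opens.map q.base).obj U))), Compat w U b c →
        ∃! x : D.presheaf.obj (op U), p.c.app (op U) x = b ∧ q.c.app (op U) x = c) :
    IsPushout f g p q := by
  have h := IsPushout.of_hasPushout f g
  let m := h.desc p q w
  have hp : pushout.inl f g ≫ m = p := h.inl_desc p q w
  have hq : pushout.inr f g ≫ m = q := h.inr_desc p q w
  clear_value m
  subst hp hq
  have hb := h.map (PresheafedSpace.forget CommRingCat.{u})
  have : IsIso m.base := by
    have e : (hb.isoIsPushout _ _ htop).hom = m.base := by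
      apply hb.hom_ext <;> simp <;> rfl
    rw [← e]; infer_instance
  have : ∀ V, IsIso (m.c.app V) := by
    rintro ⟨U⟩
    let U' := (Opens.map m.base).obj U
    refine (ConcreteCategory.isIso_iff_bijective _).2 ⟨fun x x' hxx' => ?_, fun y => ?_⟩
    · obtain ⟨z, -, huniq⟩ := hsec U _ _ (compat_app w U x)
      refine (huniq x ⟨rfl, rfl⟩).trans (huniq x' ⟨?_, ?_⟩).symm
      · exact congrArg (fun t => (pushout.inl f g).c.app (op U') t) hxx'.symm
      · exact congrArg (fun t => (pushout.inr f g).c.app (op U') t) hxx'.symm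
    · obtain ⟨x, ⟨h1, h2⟩, -⟩ := hsec U ((pushout.inl f g).c.app (op U') y) ((pushout.inr f g).c.app (op U') y)
        (compat_app h.w U' y)
      obtain ⟨z, -, huniq⟩ := GrothLib.RingedPush4.existsUnique_section h U' _ _ (compat_app h.w U' y)
      exact ⟨x, (huniq (m.c.app _ x) ⟨h1, h2⟩).trans (huniq y ⟨rfl, rfl⟩).symm⟩
  have : IsIso m.c := NatIso.isIso_of_isIso_app _
  have : IsIso m := PresheafedSpace.isIso_of_components m
  exact h.of_iso (Iso.refl _) (Iso.refl _) (Iso.refl _) (asIso m) (by simp) (by simp) (by simp) (by simp)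

end GrothLib.RingedPush29
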