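import Mathlib
import Groth.Agent.Lib.RingedPush29.Presheafed
import Groth.Agent.Lib.RingedPush4.Scheme

/-!
# A criterion for a square of schemes with closed immersions to be a pushout of ringed spaces
-/

universe u

open CategoryTheory CategoryTheory.Limits AlgebraicGeometry Opposite TopologicalSpace

namespace GrothLib.RingedPush29

theorem app_res {X Y : Scheme.{u}} (f : X ⟶ Y) {U V : Y.Opens} (h : V ≤ U) (x : Γ(Y, U)) :
    f.app V (Y.presheaf.map (homOfLE h).op x) =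
      X.presheaf.map (homOfLE (Scheme.Hom.preimage_mono f h)).op (f.app U x) := by
  exact congrArg (fun m => m x) (f.naturality (homOfLE h).op)

theorem res_appLE {X Y : Scheme.{u}} (f : X ⟶ Y) {U V : Y.Opens} {W W' : X.Opens} (h : V ≤ U) (h' : W' ≤ W)
    (e : W ≤ f ⁻¹ᵁ U) (e' : W' ≤ f ⁻¹ᵁ V) (x : Γ(Y, U)) :
    f.appLE V W' e' (Y.presheaf.map (homOfLE h).op x) = X.presheaf.map (homOfLE h').op (f.appLE U W e x) := by
  rw [← CommRingCat.comp_apply, ← CommRingCat.comp_apply, Scheme.Hom.map_appLE, Scheme.Hom.appLE_map]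

theorem res_res {X : Scheme.{u}} {U V W : X.Opens} (h : V ≤ U) (h' : W ≤ V) (x : Γ(X, U)) :
    X.presheaf.map (homOfLE h').op (X.presheaf.map (homOfLE h).op x) =
      X.presheaf.map (homOfLE (h'.trans h)).op x := by
  rw [← CommRingCat.comp_apply, ← Functor.map_comp]; rfl

theorem res_self {X : Scheme.{u}} {U : X.Opens} (h : U ≤ U) (x : Γ(X, U)) :
    X.presheaf.map (homOfLE h).op x = x := by
  rw [show (homOfLE h).op = 𝟙 _ from Subsingleton.elim _ _, X.presheaf.map_id]; rfl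

/-- Over a basic open of an affine open, sections are fractions. -/
theorem exists_fraction {X : Scheme.{u}} {U : X.Opens} (hU : IsAffineOpen U) (f : Γ(X, U)) {V : X.Opens}
    (h : V ≤ U) (hV : V = X.basicOpen f) (b : Γ(X, V)) :
    ∃ (n : ℕ) (b₀ : Γ(X, U)), b * (X.presheaf.map (homOfLE h).op f) ^ n = X.presheaf.map (homOfLE h).op b₀ := by
  let _ := (X.presheaf.map (homOfLE h).op).hom.toAlgebra
  have := hU.isLocalization_of_eq_basicOpen f (homOfLE h) hV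
  obtain ⟨⟨b₀, _, n, rfl⟩, e⟩ := IsLocalization.surj (Submonoid.powers f) b
  refine ⟨n, b₀, ?_⟩
  have e' : b * algebraMap Γ(X, U) Γ(X, V) (f ^ n) = algebraMap _ _ b₀ := e
  rw [map_pow] at e'
  exact e'

theorem exists_pow_mul_eq {X : Scheme.{u}} {U : X.Opens} (hU : IsAffineOpen U) (f : Γ(X, U)) {V : X.Opens}
    (h : V ≤ U) (hV : V = X.basicOpen f) (b b' : Γ(X, U))
    (e : X.presheaf.map (homOfLE h).op b = X.presheaf.map (homOfLE h).op b') :
    ∃ k : ℕ, f ^ k * b = f ^ k * b' := by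
  let _ := (X.presheaf.map (homOfLE h).op).hom.toAlgebra
  have := hU.isLocalization_of_eq_basicOpen f (homOfLE h) hV
  obtain ⟨⟨_, k, rfl⟩, hk⟩ := IsLocalization.exists_of_eq (M := Submonoid.powers f) (S := Γ(X, V)) e
  exact ⟨k, hk⟩

theorem isUnit_res {X : Scheme.{u}} {U V : X.Opens} (f : Γ(X, U)) (h : V ≤ U) (hV : V = X.basicOpen f) :
    IsUnit (X.presheaf.map (homOfLE h).op f) := by
  subst hV
  exact RingedSpace.isUnit_res_basicOpen X.toLocallyRingedSpace.toRingedSpace f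

section

variable {Z X Z' X' : Scheme.{u}} (ι : Z ⟶ X) (q : Z ⟶ Z') (π : X ⟶ X') (ι' : Z' ⟶ X')

variable {ι q π ι'} in
theorem preimage_le (hw : ι ≫ π = q ≫ ι') (U : X'.Opens) : ι ⁻¹ᵁ π ⁻¹ᵁ U ≤ q ⁻¹ᵁ ι' ⁻¹ᵁ U := by
  rw [← Scheme.Hom.comp_preimage, ← Scheme.Hom.comp_preimage, hw]

variable {ι q π ι'} in
theorem le_preimage (hw : ι ≫ π = q ≫ ι') (U : X'.Opens) : q ⁻¹ᵁ ι' ⁻¹ᵁ U ≤ ι ⁻¹ᵁ π ⁻¹ᵁ U := by
  rw [← Scheme.Hom.comp_preimage, ← Scheme.Hom.comp_preimage, hw]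

/-- The sections over `U` are the compatible pairs of sections over the two pieces. -/
def SecAt (hw : ι ≫ π = q ≫ ι') (U : X'.Opens) : Prop :=
  ∀ (b : Γ(X, π ⁻¹ᵁ U)) (c : Γ(Z', ι' ⁻¹ᵁ U)),
    ι.app _ b = q.appLE (ι' ⁻¹ᵁ U) (ι ⁻¹ᵁ π ⁻¹ᵁ U) (preimage_le hw U) c →
      ∃! x : Γ(X', U), π.app U x = b ∧ ι'.app U x = c

variable {ι q π ι'} (hw : ι ≫ π = q ≫ ι')

theorem compat_of_section (U : X'.Opens) (x : Γ(X', U)) :
    ι.app _ (π.app U x) = q.appLE (ι' ⁻¹ᵁ U) (ι ⁻¹ᵁ π ⁻¹ᵁ U) (preimage_le hw U) (ι'.app U x) := by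
  rw [Scheme.Hom.app_eq_appLE, Scheme.Hom.app_eq_appLE π, Scheme.Hom.app_eq_appLE ι',
    ← CommRingCat.comp_apply, ← CommRingCat.comp_apply, Scheme.Hom.appLE_comp_appLE,
    Scheme.Hom.appLE_comp_appLE]
  simp only [hw]

theorem SecAt.eq {U : X'.Opens} (h : SecAt ι q π ι' hw U) {x x' : Γ(X', U)}
    (h₁ : π.app U x = π.app U x') (h₂ : ι'.app U x = ι'.app U x') : x = x' := by
  obtain ⟨z, -, huniq⟩ := h _ _ (compat_of_section hw U x)
  exact (huniq x ⟨rfl, rfl⟩).trans (huniq x' ⟨h₁.symm, h₂.symm⟩).symm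

theorem SecAt.of_pushout
    (hpo : IsPushout ((Scheme.forgetToLocallyRingedSpace ⋙ LocallyRingedSpace.forgetToSheafedSpace).map ι) ((Scheme.forgetToLocallyRingedSpace ⋙ LocallyRingedSpace.forgetToSheafedSpace).map q)
      ((Scheme.forgetToLocallyRingedSpace ⋙ LocallyRingedSpace.forgetToSheafedSpace).map π) ((Scheme.forgetToLocallyRingedSpace ⋙ LocallyRingedSpace.forgetToSheafedSpace).map ι'))
    (U : X'.Opens) : SecAt ι q π ι' hw U := fun b c hbc =>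
  GrothLib.RingedPush4.existsUnique_section_scheme hpo hw U b c (by
    rw [hbc, ← CommRingCat.comp_apply, Scheme.Hom.appLE_map, Scheme.Hom.appLE_eq_app])

theorem secAt_basicOpen [IsAffineHom π] [IsAffineHom ι] [IsAffineHom ι'] {U : X'.Opens} (hU : IsAffineOpen U)
    (h : SecAt ι q π ι' hw U) (p : Γ(X', U)) : SecAt ι q π ι' hw (X'.basicOpen p) := by
  intro b c hbc
  have hD : X'.basicOpen p ≤ U := X'.basicOpen_le p
  have hX := hU.preimage π
  have hZ' := hU.preimage ι'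
  have hZ := hX.preimage ι
  have eX := Scheme.preimage_basicOpen π p
  have eZ' := Scheme.preimage_basicOpen ι' p
  have lX : π ⁻¹ᵁ X'.basicOpen p ≤ π ⁻¹ᵁ U := Scheme.Hom.preimage_mono π hD
  have lZ' : ι' ⁻¹ᵁ X'.basicOpen p ≤ ι' ⁻¹ᵁ U := Scheme.Hom.preimage_mono ι' hD
  have lZ : ι ⁻¹ᵁ π ⁻¹ᵁ X'.basicOpen p ≤ ι ⁻¹ᵁ π ⁻¹ᵁ U := Scheme.Hom.preimage_mono ι lX
  have eZ : ι ⁻¹ᵁ π ⁻¹ᵁ X'.basicOpen p = Z.basicOpen (ι.app _ (π.app U p)) := by
    rw [eX, Scheme.preimage_basicOpen]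
  have hcp := compat_of_section hw U p
  have huX : IsUnit (X.presheaf.map (homOfLE lX).op (π.app U p)) := isUnit_res _ lX eX
  have huZ' : IsUnit (Z'.presheaf.map (homOfLE lZ').op (ι'.app U p)) := isUnit_res _ lZ' eZ'
  obtain ⟨n₁, b₁, hb₁⟩ := exists_fraction hX (π.app U p) lX eX b
  obtain ⟨n₂, c₂, hc₂⟩ := exists_fraction hZ' (ι'.app U p) lZ' eZ' c
  obtain ⟨n, b₀, c₀, hb₀, hc₀⟩ : ∃ n b₀ c₀,
      b * X.presheaf.map (homOfLE lX).op (π.app U p) ^ n = X.presheaf.map (homOfLE lX).op b₀ ∧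
      c * Z'.presheaf.map (homOfLE lZ').op (ι'.app U p) ^ n = Z'.presheaf.map (homOfLE lZ').op c₀ := by
    refine ⟨n₁ + n₂, π.app U p ^ n₂ * b₁, ι'.app U p ^ n₁ * c₂, ?_, ?_⟩
    · rw [pow_add, ← mul_assoc, hb₁, map_mul, map_pow, mul_comm]
    · rw [pow_add, mul_comm (Z'.presheaf.map _ _ ^ n₁), ← mul_assoc, hc₂, map_mul, map_pow, mul_comm]
  obtain ⟨k, hk⟩ := exists_pow_mul_eq hZ _ lZ eZ (ι.app _ b₀)
      (q.appLE _ _ (preimage_le hw U) c₀) (by
    rw [← app_res ι lX, ← res_appLE q lZ' lZ _ (preimage_le hw _), ← hb₀, ← hc₀, map_mul, map_mul,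
      map_pow, map_pow, hbc, app_res ι lX, res_appLE q lZ' lZ (preimage_le hw U), hcp])
  obtain ⟨x₀, ⟨h1, h2⟩, -⟩ := h (π.app U p ^ k * b₀) (ι'.app U p ^ k * c₀) (by
    rw [map_mul, map_mul, map_pow, map_pow, ← hcp, hk])
  have hu : IsUnit (X'.presheaf.map (homOfLE hD).op p) := isUnit_res p hD rfl
  obtain ⟨v, hv⟩ := (hu.pow (k + n)).exists_left_inv
  refine ⟨X'.presheaf.map (homOfLE hD).op x₀ * v, ⟨?_, ?_⟩, ?_⟩
  · refine (huX.pow (k + n)).mul_right_cancel ?_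
    rw [← app_res π hD, ← map_pow, ← map_mul, mul_assoc, hv, mul_one, app_res π hD, h1, map_mul, map_pow,
      ← hb₀, map_pow, app_res π hD]
    ring
  · refine (huZ'.pow (k + n)).mul_right_cancel ?_
    rw [← app_res ι' hD, ← map_pow, ← map_mul, mul_assoc, hv, mul_one, app_res ι' hD, h2, map_mul, map_pow,
      ← hc₀, map_pow, app_res ι' hD]
    ring
  · intro y hy
    refine (hu.pow (k + n)).mul_right_cancel ?_
    rw [mul_assoc, hv, mul_one]
    have inj : ∀ z : Γ(X', X'.basicOpen p), π.app _ z = 0 → ι'.app _ z = 0 → z = 0 := by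
      intro z hz₁ hz₂
      obtain ⟨m, z₀, hz⟩ := exists_fraction hU p hD rfl z
      have e₁ : X.presheaf.map (homOfLE lX).op (π.app U z₀) = X.presheaf.map (homOfLE lX).op 0 := by
        rw [← app_res π hD, ← hz, map_mul, hz₁, zero_mul, map_zero]
      have e₂ : Z'.presheaf.map (homOfLE lZ').op (ι'.app U z₀) = Z'.presheaf.map (homOfLE lZ').op 0 := by
        rw [← app_res ι' hD, ← hz, map_mul, hz₂, zero_mul, map_zero]
      obtain ⟨i, hi⟩ := exists_pow_mul_eq hX _ lX eX _ _ e₁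
      obtain ⟨j, hj⟩ := exists_pow_mul_eq hZ' _ lZ' eZ' _ _ e₂
      rw [mul_zero] at hi hj
      have h0 : p ^ (i + j) * z₀ = 0 := by
        refine h.eq hw ?_ ?_
        · rw [map_mul, map_pow, map_zero, pow_add, mul_comm (π.app U p ^ i), mul_assoc, hi, mul_zero]
        · rw [map_mul, map_pow, map_zero, pow_add, mul_assoc, hj, mul_zero]
      have h0' := congrArg (X'.presheaf.map (homOfLE hD).op) h0
      rw [map_mul, map_pow, ← hz, map_zero] at h0'
      exact (hu.pow m).mul_left_eq_zero.1 ((hu.pow (i + j)).mul_right_eq_zero.1 h0')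
    refine sub_eq_zero.1 (inj _ ?_ ?_)
    · rw [map_sub, map_mul, hy.1, map_pow, app_res π hD, app_res π hD, h1, map_mul, map_pow, ← hb₀]
      ring
    · rw [map_sub, map_mul, hy.2, map_pow, app_res ι' hD, app_res ι' hD, h2, map_mul, map_pow, ← hc₀]
      ring

/-- If the sections are the compatible pairs over small enough opens, they are so over all opens. -/
theorem secAt_of_basis (hb : ∀ (W : X'.Opens) (y : X'), y ∈ W → ∃ D : X'.Opens, y ∈ D ∧ D ≤ W ∧ SecAt ι q π ι' hw D)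
    (U : X'.Opens) : SecAt ι q π ι' hw U := by
  have inj : ∀ (W : X'.Opens) (x x' : Γ(X', W)), π.app W x = π.app W x' → ι'.app W x = ι'.app W x' → x = x' := by
    intro W x x' h₁ h₂
    refine X'.IsSheaf.section_ext fun y hy => ?_
    obtain ⟨D, hyD, hDW, hD⟩ := hb W y hy
    refine ⟨D, hDW, hyD, hD.eq hw ?_ ?_⟩
    · rw [app_res π hDW, app_res π hDW, h₁]
    · rw [app_res ι' hDW, app_res ι' hDW, h₂]
  intro b c hbc
  choose D hyD hDU hD using fun y : U => hb U y y.2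
  have hcomp : ∀ y : U, ι.app _ (X.presheaf.map (homOfLE (Scheme.Hom.preimage_mono π (hDU y))).op b) =
      q.appLE _ _ (preimage_le hw (D y)) (Z'.presheaf.map (homOfLE (Scheme.Hom.preimage_mono ι' (hDU y))).op c) := by
    intro y
    rw [app_res ι, hbc, res_appLE q _ _ (preimage_le hw U)]
  choose s hs _ using fun y => hD y _ _ (hcomp y)
  obtain ⟨x, hx, -⟩ := X'.sheaf.existsUnique_gluing' D U (fun y => homOfLE (hDU y))
    (fun y hy => Opens.mem_iSup.2 ⟨⟨y, hy⟩, hyD ⟨y, hy⟩⟩) s (by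
      intro i j
      apply inj
      · erw [app_res π (inf_le_left : D i ⊓ D j ≤ D i), app_res π (inf_le_right : D i ⊓ D j ≤ D j)]
        rw [(hs i).1, (hs j).1, res_res, res_res]
      · erw [app_res ι' (inf_le_left : D i ⊓ D j ≤ D i), app_res ι' (inf_le_right : D i ⊓ D j ≤ D j)]
        rw [(hs i).2, (hs j).2, res_res, res_res])
  have hxs : ∀ y, X'.presheaf.map (homOfLE (hDU y)).op x = s y := hx
  refine ⟨x, ⟨?_, ?_⟩, fun x' hx' => ?_⟩
  · refine X.IsSheaf.section_ext fun z hz => ?_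
    refine ⟨π ⁻¹ᵁ D ⟨π z, hz⟩, Scheme.Hom.preimage_mono π (hDU _), hyD ⟨π z, hz⟩, ?_⟩
    rw [← app_res π (hDU _) x, hxs, (hs _).1]
  · refine Z'.IsSheaf.section_ext fun z hz => ?_
    refine ⟨ι' ⁻¹ᵁ D ⟨ι' z, hz⟩, Scheme.Hom.preimage_mono ι' (hDU _), hyD ⟨ι' z, hz⟩, ?_⟩
    rw [← app_res ι' (hDU _) x, hxs, (hs _).2]
  · refine X'.IsSheaf.section_ext fun y hy => ⟨D ⟨y, hy⟩, hDU _, hyD ⟨y, hy⟩, ?_⟩
    refine (hD _).eq hw ?_ ?_
    · rw [app_res π, app_res π, hx'.1, ← app_res π (hDU _) x, hxs, (hs _).1]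
    · rw [app_res ι', app_res ι', hx'.2, ← app_res ι' (hDU _) x, hxs, (hs _).2]

theorem exists_affineOpen_disjoint [IsClosedImmersion ι'] (y : X') (hy : y ∉ Set.range ι') (W : X'.Opens)
    (hyW : y ∈ W) : ∃ V : X'.Opens, IsAffineOpen V ∧ y ∈ V ∧ V ≤ W ∧ ι' ⁻¹ᵁ V = ⊥ := by
  obtain ⟨_, ⟨V, hV, rfl⟩, hyV, hVs⟩ := X'.isBasis_affineOpens.exists_subset_of_mem_open
    (show y ∈ ((W : Set X') ∩ (Set.range ι')ᶜ) from ⟨hyW, hy⟩)
    (W.2.inter ι'.isClosedEmbedding.isClosed_range.isOpen_compl)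
  refine ⟨V, hV, hyV, fun z hz => (hVs hz).1, ?_⟩
  ext z
  simp only [TopologicalSpace.Opens.coe_bot, Set.mem_empty_iff_false, iff_false]
  exact fun hz => (hVs hz).2 ⟨z, rfl⟩

theorem isIso_restrict_compl [IsAffineHom π] [IsClosedImmersion ι']
    (hsec : ∀ U, SecAt ι q π ι' hw U) (U : X'.Opens) (hU : (U : Set X') ⊆ (Set.range ι')ᶜ) : IsIso (π ∣_ U) := by
  have hbij : ∀ V ≤ U, Function.Bijective (π.app V).hom := by
    intro V hV
    have e' : ι' ⁻¹ᵁ V = ⊥ := by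
      ext z
      simp only [TopologicalSpace.Opens.coe_bot, Set.mem_empty_iff_false, iff_false]
      exact fun hz => hU (hV hz) ⟨z, rfl⟩
    have : Subsingleton Γ(Z', ι' ⁻¹ᵁ V) := by rw [e']; infer_instance
    have : Subsingleton Γ(Z, ι ⁻¹ᵁ π ⁻¹ᵁ V) := by
      rw [le_antisymm (preimage_le hw V) (le_preimage hw V), e', show q ⁻¹ᵁ (⊥ : Z'.Opens) = ⊥ from rfl]
      infer_instance
    refine ⟨fun x x' hxx' => (hsec V).eq hw hxx' (Subsingleton.elim _ _), fun b => ?_⟩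
    obtain ⟨x, hx, -⟩ := hsec V b 0 (Subsingleton.elim _ _)
    exact ⟨x, hx.1⟩
  have : IsAffineHom (π ∣_ U) := IsZariskiLocalAtTarget.restrict (P := @IsAffineHom) inferInstance U
  refine HasAffineProperty.of_iSup_eq_top (P := MorphismProperty.isomorphisms Scheme)
    (fun V : U.toScheme.affineOpens => V) (iSup_affineOpens_eq_top _)
    (fun V => ⟨V.2.preimage _, ?_⟩)
  rw [Scheme.Hom.appTop, morphismRestrict_app, morphismRestrict_app]
  have hmap : ∀ {W : Scheme.{u}} {A B : W.Opensᵒᵖ} (m : A ⟶ B), A = B → IsIso (W.presheaf.map m) := by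
    intro W A B m e
    subst e
    rw [Subsingleton.elim m (𝟙 A), W.presheaf.map_id]
    infer_instance
  refine IsIso.comp_isIso' (IsIso.comp_isIso'
    ((ConcreteCategory.isIso_iff_bijective _).2 (hbij _ (U.ι_image_le _))) (hmap _ ?_)) (hmap _ ?_)
  · simp [image_morphismRestrict_preimage]
  · simp

theorem exists_existsUnique_compl [IsAffineHom π] [IsClosedImmersion ι']
    (hsec : ∀ U, SecAt ι q π ι' hw U) (y : X') (hy : y ∉ Set.range ι') : ∃! x : X, π x = y := by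
  obtain ⟨V, hV, hyV, -, hVZ⟩ := exists_affineOpen_disjoint y hy ⊤ trivial
  have : IsIso (π ∣_ V) := isIso_restrict_compl hw hsec V (fun z hz ⟨w, hwz⟩ => by
    have : w ∈ ι' ⁻¹ᵁ V := by
      change ι' w ∈ V
      rw [hwz]; exact hz
    rw [hVZ] at this
    exact this)
  obtain ⟨x, hx⟩ := (π ∣_ V).homeomorph.surjective ⟨y, hyV⟩
  refine ⟨x.1, ?_, fun x' hx' => ?_⟩
  · exact (morphismRestrict_base_coe π V x).symm.trans (congrArg Subtype.val hx)
  · have hm : x' ∈ π ⁻¹ᵁ V := by change π x' ∈ V; rw [hx']; exact hyV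
    refine congrArg Subtype.val (a₁ := (⟨x', hm⟩ : (π ⁻¹ᵁ V).toScheme)) ((π ∣_ V).homeomorph.injective ?_)
    refine Eq.trans ?_ hx.symm
    exact Subtype.ext ((morphismRestrict_base_coe π V ⟨x', hm⟩).trans hx')

theorem mem_range_of_mem_range [IsAffineHom π] [IsClosedImmersion ι] [IsClosedImmersion ι']
    (hsec : ∀ U, SecAt ι q π ι' hw U) (x : X) (hx : π x ∈ Set.range ι') : x ∈ Set.range ι := by
  obtain ⟨z', hz'⟩ := hx
  by_contra hx
  obtain ⟨_, ⟨U, hU, rfl⟩, hxU, -⟩ := X'.isBasis_affineOpens.exists_subset_of_mem_open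
    (Set.mem_univ (π x)) isOpen_univ
  have hX := hU.preimage π
  have hZ := hX.preimage ι
  obtain ⟨_, ⟨V, hV, rfl⟩, hxV, hVs⟩ := X.isBasis_affineOpens.exists_subset_of_mem_open
    (show x ∈ (((π ⁻¹ᵁ U : X.Opens) : Set X) ∩ (Set.range ι)ᶜ) from ⟨hxU, hx⟩)
    ((π ⁻¹ᵁ U).2.inter ι.isClosedEmbedding.isClosed_range.isOpen_compl)
  obtain ⟨b, hbV, hxb⟩ := hX.exists_basicOpen_le ⟨x, hxV⟩ (show x ∈ π ⁻¹ᵁ U from hxU)
  have hbot : Z.basicOpen (ι.app _ b) = ⊥ := by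
    rw [← Scheme.preimage_basicOpen]
    ext z
    simp only [TopologicalSpace.Opens.coe_bot, Set.mem_empty_iff_false, iff_false]
    exact fun hz => (hVs (hbV hz)).2 ⟨z, rfl⟩
  obtain ⟨n, hn⟩ := (Scheme.isNilpotent_iff_basicOpen_eq_bot_of_isCompact hZ.isCompact _).2 hbot
  obtain ⟨p, ⟨hp₁, hp₂⟩, -⟩ := hsec U (b ^ (n + 1)) 0 (by rw [map_pow, pow_succ, hn, zero_mul, map_zero])
  have h1 : x ∈ X.basicOpen (π.app U p) := by
    rw [hp₁, Scheme.basicOpen_pow _ _ (Nat.succ_pos n)]; exact hxb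
  rw [← Scheme.preimage_basicOpen] at h1
  have h2 : z' ∈ ι' ⁻¹ᵁ X'.basicOpen p := by
    change ι' z' ∈ X'.basicOpen p
    rw [hz']; exact h1
  rw [Scheme.preimage_basicOpen, hp₂, Scheme.basicOpen_zero] at h2
  exact h2

theorem isOpen_of_preimage [IsAffineHom π] [IsAffineHom q] [IsClosedImmersion ι] [IsClosedImmersion ι']
    (hsec : ∀ U, SecAt ι q π ι' hw U) (W : Set X') (hW : IsOpen (π ⁻¹' W)) (hW' : IsOpen (ι' ⁻¹' W)) :
    IsOpen W := by
  rw [isOpen_iff_forall_mem_open]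
  intro y hy
  by_cases hyr : y ∈ Set.range ι'
  · obtain ⟨z', rfl⟩ := hyr
    obtain ⟨_, ⟨U, hU, rfl⟩, hyU, -⟩ := X'.isBasis_affineOpens.exists_subset_of_mem_open
      (Set.mem_univ (ι' z')) isOpen_univ
    have hX := hU.preimage π
    have hZ := hX.preimage ι
    obtain ⟨h, hhW, hzh⟩ := (hU.preimage ι').exists_basicOpen_le (V := ⟨_, hW'⟩) ⟨z', hy⟩
      (show z' ∈ ι' ⁻¹ᵁ U from hyU)
    let r := q.appLE (ι' ⁻¹ᵁ U) (ι ⁻¹ᵁ π ⁻¹ᵁ U) (preimage_le hw U) h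
    let M : Ideal Γ(X, π ⁻¹ᵁ U) :=
      ⨅ x : {x : (π ⁻¹ᵁ U : X.Opens) // π x.1 ∉ W}, (hX.primeIdealOf x.1).asIdeal
    have hM : ∀ b ∈ M, ∀ x ∈ X.basicOpen b, π x ∈ W := by
      intro b hb x hxb
      by_contra hxW
      have h1 := (Submodule.mem_iInf _).1 hb ⟨⟨x, X.basicOpen_le b hxb⟩, hxW⟩
      have h2 : hX.primeIdealOf ⟨x, X.basicOpen_le b hxb⟩ ∈ hX.fromSpec ⁻¹ᵁ X.basicOpen b := by
        change hX.fromSpec (hX.primeIdealOf ⟨x, X.basicOpen_le b hxb⟩) ∈ X.basicOpen b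
        rw [hX.fromSpec_primeIdealOf]; exact hxb
      rw [hX.fromSpec_preimage_basicOpen] at h2
      exact h2 h1
    have hr : r ∈ (M.map (ι.app (π ⁻¹ᵁ U)).hom).radical := by
      rw [Ideal.radical_eq_sInf, Ideal.mem_sInf]
      rintro P ⟨hMP, hP⟩
      by_contra hrP
      let z := hZ.fromSpec ⟨P, hP⟩
      have hzr : z ∈ Z.basicOpen r := by
        have h1 : (⟨P, hP⟩ : PrimeSpectrum _) ∈ hZ.fromSpec ⁻¹ᵁ Z.basicOpen r := by
          rw [hZ.fromSpec_preimage_basicOpen]; exact hrP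
        exact h1
      have hzU : z ∈ ι ⁻¹ᵁ π ⁻¹ᵁ U := Z.basicOpen_le r hzr
      have hzW : π (ι z) ∈ W := by
        rw [Scheme.basicOpen_appLE] at hzr
        rw [← Scheme.Hom.comp_apply, hw, Scheme.Hom.comp_apply]
        exact hhW hzr.2
      obtain ⟨b, hbW, hzb⟩ := hX.exists_basicOpen_le (V := ⟨_, hW⟩) ⟨ι z, hzW⟩ hzU
      have hbM : b ∈ M := (Submodule.mem_iInf _).2 fun x => by
        by_contra hxb
        have h1 : hX.primeIdealOf x.1 ∈ hX.fromSpec ⁻¹ᵁ X.basicOpen b := by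
          rw [hX.fromSpec_preimage_basicOpen]; exact hxb
        change hX.fromSpec (hX.primeIdealOf x.1) ∈ X.basicOpen b at h1
        rw [hX.fromSpec_primeIdealOf] at h1
        exact x.2 (hbW h1)
      have h2 : (⟨P, hP⟩ : PrimeSpectrum _) ∈ hZ.fromSpec ⁻¹ᵁ Z.basicOpen (ι.app _ b) := by
        rw [← Scheme.preimage_basicOpen]; exact hzb
      rw [hZ.fromSpec_preimage_basicOpen] at h2
      exact h2 (hMP (Ideal.mem_map_of_mem _ hbM))
    obtain ⟨n, hn⟩ := hr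
    have hn' : r ^ (n + 1) ∈ M.map (ι.app (π ⁻¹ᵁ U)).hom := by
      rw [pow_succ]; exact Ideal.mul_mem_right _ _ hn
    obtain ⟨b, hbM, hb⟩ := (Ideal.mem_map_iff_of_surjective _ (ι.app_surjective _ hX)).1 hn'
    obtain ⟨p, ⟨hp₁, hp₂⟩, -⟩ := hsec U b (h ^ (n + 1)) (hb.trans (map_pow _ _ _).symm)
    refine ⟨X'.basicOpen p, fun w hwp => ?_, (X'.basicOpen p).2, ?_⟩
    · by_cases hwr : w ∈ Set.range ι'
      · obtain ⟨z, rfl⟩ := hwr
        have h1 : z ∈ ι' ⁻¹ᵁ X'.basicOpen p := hwp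
        rw [Scheme.preimage_basicOpen, hp₂, Scheme.basicOpen_pow _ _ (Nat.succ_pos n)] at h1
        exact hhW h1
      · obtain ⟨x, rfl, -⟩ := exists_existsUnique_compl hw hsec w hwr
        have h1 : x ∈ π ⁻¹ᵁ X'.basicOpen p := hwp
        rw [Scheme.preimage_basicOpen, hp₁] at h1
        exact hM b hbM x h1
    · have h1 : z' ∈ ι' ⁻¹ᵁ X'.basicOpen p := by
        rw [Scheme.preimage_basicOpen, hp₂, Scheme.basicOpen_pow _ _ (Nat.succ_pos n)]; exact hzh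
      exact h1
  · let O : X'.Opens := ⟨(Set.range ι')ᶜ, ι'.isClosedEmbedding.isClosed_range.isOpen_compl⟩
    have : IsIso (π ∣_ O) := isIso_restrict_compl hw hsec O subset_rfl
    refine ⟨W ∩ O, Set.inter_subset_left, ?_, hy, hyr⟩
    have h1 : IsOpen ((π ∣_ O) ⁻¹' (Subtype.val ⁻¹' W : Set O.toScheme)) := by
      have e : (π ∣_ O) ⁻¹' (Subtype.val ⁻¹' W) = (Subtype.val ⁻¹' (π ⁻¹' W) : Set (π ⁻¹ᵁ O).toScheme) := by
        ext x
        simp only [Set.mem_preimage]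
        rw [morphismRestrict_base_coe]
      rw [e]; exact hW.preimage continuous_subtype_val
    have h2 : IsOpen (Subtype.val ⁻¹' W : Set O.toScheme) := (π ∣_ O).homeomorph.isOpen_preimage.1 h1
    have h3 := O.2.isOpenMap_subtype_val _ h2
    have e3 : W ∩ (O : Set X') = Subtype.val '' (Subtype.val ⁻¹' W : Set O.toScheme) := by
      ext v
      exact ⟨fun hv => ⟨⟨v, hv.2⟩, hv.1, rfl⟩, by rintro ⟨v', hv', rfl⟩; exact ⟨hv', v'.2⟩⟩
    rw [e3]
    exact h3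

theorem isPushout_base [IsAffineHom π] [IsAffineHom q] [IsClosedImmersion ι] [IsClosedImmersion ι']
    (hsec : ∀ U, SecAt ι q π ι' hw U) : IsPushout ι.base q.base π.base ι'.base := by
  have w : ι.base ≫ π.base = q.base ≫ ι'.base := by
    rw [← Scheme.Hom.comp_base, ← Scheme.Hom.comp_base, hw]
  have hwx : ∀ z : Z, π (ι z) = ι' (q z) := fun z => by
    rw [← Scheme.Hom.comp_apply, hw, Scheme.Hom.comp_apply]
  have ex : ∀ (s : PushoutCocone ι.base q.base), ∃ l : X'.toTopCat ⟶ s.pt, π.base ≫ l = s.inl ∧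
      ι'.base ≫ l = s.inr := by
    intro s
    have hs : ∀ z, s.inl (ι z) = s.inr (q z) := fun z =>
      congrArg (fun (m : Z.toTopCat ⟶ s.pt) => m z) s.condition
    classical
    let F : X' → s.pt := fun y =>
      if h : y ∈ Set.range ι' then s.inr h.choose else s.inl (exists_existsUnique_compl hw hsec y h).choose
    have h2 : ∀ z, F (ι' z) = s.inr z := fun z => by
      have h : ι' z ∈ Set.range ι' := ⟨z, rfl⟩
      simp only [F, dif_pos h]
      exact congrArg _ (ι'.isClosedEmbedding.injective h.choose_spec)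
    have h1 : ∀ x, F (π x) = s.inl x := fun x => by
      by_cases h : π x ∈ Set.range ι'
      · obtain ⟨z, rfl⟩ := mem_range_of_mem_range hw hsec x h
        rw [hwx, h2, hs]
      · simp only [F, dif_neg h]
        have hc := (exists_existsUnique_compl hw hsec (π x) h).choose_spec
        exact congrArg _ (hc.2 x rfl).symm
    have hF : Continuous F := continuous_def.2 fun V hV => by
      refine isOpen_of_preimage hw hsec _ ?_ ?_
      · rw [show π ⁻¹' (F ⁻¹' V) = s.inl ⁻¹' V by ext x; simp [h1]]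
        exact hV.preimage s.inl.hom.continuous
      · rw [show ι' ⁻¹' (F ⁻¹' V) = s.inr ⁻¹' V by ext x; simp [h2]]
        exact hV.preimage s.inr.hom.continuous
    exact ⟨TopCat.ofHom ⟨F, hF⟩, TopCat.ext h1, TopCat.ext h2⟩
  choose desc h₁ h₂ using ex
  refine ⟨⟨w⟩, ⟨PushoutCocone.IsColimit.mk _ desc h₁ h₂ fun s m hm₁ hm₂ => TopCat.ext fun y => ?_⟩⟩
  by_cases h : y ∈ Set.range ι'
  · obtain ⟨z, rfl⟩ := h
    exact congrArg (fun (t : Z'.toTopCat ⟶ s.pt) => t z) (hm₂.trans (h₂ s).symm)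
  · obtain ⟨x, rfl, -⟩ := exists_existsUnique_compl hw hsec y h
    exact congrArg (fun (t : X.toTopCat ⟶ s.pt) => t x) (hm₁.trans (h₁ s).symm)

theorem compat_of_eqToHom (U : X'.Opens) (b : Γ(X, π ⁻¹ᵁ U)) (c : Γ(Z', ι' ⁻¹ᵁ U))
    (e : Z.presheaf.map (eqToHom (show op (ι ⁻¹ᵁ π ⁻¹ᵁ U) = op (q ⁻¹ᵁ ι' ⁻¹ᵁ U) by
      simp only [← Scheme.Hom.comp_preimage, hw])) (ι.app _ b) = q.app _ c) :
    ι.app _ b = q.appLE (ι' ⁻¹ᵁ U) (ι ⁻¹ᵁ π ⁻¹ᵁ U) (preimage_le hw U) c := by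
  rw [Scheme.Hom.appLE, CommRingCat.comp_apply, ← e, ← CommRingCat.comp_apply, ← Functor.map_comp]
  rw [show (eqToHom _ ≫ (homOfLE (preimage_le hw U)).op : op (ι ⁻¹ᵁ π ⁻¹ᵁ U) ⟶ op (ι ⁻¹ᵁ π ⁻¹ᵁ U)) = 𝟙 _ from
    Subsingleton.elim _ _, Z.presheaf.map_id]
  rfl

theorem isPushout_sheafedSpace [IsAffineHom π] [IsAffineHom q] [IsClosedImmersion ι] [IsClosedImmersion ι']
    (hsec : ∀ U, SecAt ι q π ι' hw U) :
    IsPushout ((Scheme.forgetToLocallyRingedSpace ⋙ LocallyRingedSpace.forgetToSheafedSpace).map ι) ((Scheme.forgetToLocallyRingedSpace ⋙ LocallyRingedSpace.forgetToSheafedSpace).map q)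
      ((Scheme.forgetToLocallyRingedSpace ⋙ LocallyRingedSpace.forgetToSheafedSpace).map π) ((Scheme.forgetToLocallyRingedSpace ⋙ LocallyRingedSpace.forgetToSheafedSpace).map ι') := by
  have w := congrArg (Scheme.forgetToLocallyRingedSpace ⋙ LocallyRingedSpace.forgetToSheafedSpace).map hw
  simp only [Functor.map_comp] at w
  refine IsPushout.of_map SheafedSpace.forgetToPresheafedSpace w ?_
  refine isPushout_of_sections
    (by rw [← SheafedSpace.forgetToPresheafedSpace.map_comp, w, Functor.map_comp]) (isPushout_base hw hsec) ?_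
  exact fun U b c hbc => hsec U b c (compat_of_eqToHom hw U b c hbc)

end

end GrothLib.RingedPush29
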