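import Mathlib
import Groth.Prelude.Def_EtMil
import Groth.Agent.Lib.RingedPush4.BaseChange
import Groth.Agent.Lib.RingedPush29.Crit
import Groth.Agent.Lib.Milnor.OverBase

/-!
# Base change of a pinching of flat schemes
-/

universe u

open CategoryTheory CategoryTheory.Limits AlgebraicGeometry TensorProduct

namespace GrothLib.RingedPush29

theorem existsUnique_of_pushouts {R B' B A' A C : Type u} [CommRing R] [CommRing B'] [CommRing B] [CommRing A']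
    [CommRing A] [Algebra B' B] [Algebra B' A'] [Algebra B A] [Algebra A' A] [Algebra B' A]
    [IsScalarTower B' B A] [IsScalarTower B' A' A]
    [Algebra R B'] [Algebra R B] [Algebra R A'] [Algebra R A]
    [IsScalarTower R B' B] [IsScalarTower R B' A'] [IsScalarTower R B A] [IsScalarTower R A' A]
    [Module.Flat R A] (hsq : EtMil.IsFibreSquare B' B A' A) [CommRing C] [Algebra R C]
    {P PB PA' PA : Type u} [CommRing P] [CommRing PB] [CommRing PA'] [CommRing PA]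
    (e : C ⊗[R] B' →+* P) (he : Function.Surjective e)
    (eB : C ⊗[R] B →+* PB) (heB : Function.Bijective eB)
    (eA' : C ⊗[R] A' →+* PA') (heA' : Function.Bijective eA')
    (eA : C ⊗[R] A →+* PA) (heA : Function.Injective eA)
    (mB : P →+* PB) (mA' : P →+* PA') (nB : PB →+* PA) (nA' : PA' →+* PA)
    (hB1 : ∀ c, mB (e (c ⊗ₜ 1)) = eB (c ⊗ₜ 1)) (hB2 : ∀ b, mB (e (1 ⊗ₜ b)) = eB (1 ⊗ₜ algebraMap B' B b))
    (hA1 : ∀ c, mA' (e (c ⊗ₜ 1)) = eA' (c ⊗ₜ 1)) (hA2 : ∀ b, mA' (e (1 ⊗ₜ b)) = eA' (1 ⊗ₜ algebraMap B' A' b))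
    (kB1 : ∀ c, nB (eB (c ⊗ₜ 1)) = eA (c ⊗ₜ 1)) (kB2 : ∀ b, nB (eB (1 ⊗ₜ b)) = eA (1 ⊗ₜ algebraMap B A b))
    (kA1 : ∀ c, nA' (eA' (c ⊗ₜ 1)) = eA (c ⊗ₜ 1)) (kA2 : ∀ b, nA' (eA' (1 ⊗ₜ b)) = eA (1 ⊗ₜ algebraMap A' A b))
    (b : PB) (a' : PA') (h : nB b = nA' a') : ∃! x : P, mB x = b ∧ mA' x = a' := by
  let fB := (IsScalarTower.toAlgHom R B' B).toLinearMap
  let fA := (IsScalarTower.toAlgHom R B' A').toLinearMap
  let gB := (IsScalarTower.toAlgHom R B A).toLinearMap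
  let gA := (IsScalarTower.toAlgHom R A' A).toLinearMap
  have key : ∀ {M N : Type u} [CommRing M] [CommRing N] [Algebra R M] [Algebra R N] (φ : M →ₗ[R] N)
      {PM PN : Type u} [CommRing PM] [CommRing PN] (eM : C ⊗[R] M →+* PM) (eN : C ⊗[R] N →+* PN) (m : PM →+* PN)
      (_ : ∀ c, m (eM (c ⊗ₜ 1)) = eN (c ⊗ₜ 1)) (_ : ∀ x, m (eM (1 ⊗ₜ x)) = eN (1 ⊗ₜ φ x)) (z : C ⊗[R] M),
      m (eM z) = eN (φ.lTensor C z) := by
    intro M N _ _ _ _ φ PM PN _ _ eM eN m h1 h2 z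
    induction z with
    | zero => simp
    | add a b ha hb => simp only [map_add, ha, hb]
    | tmul c x =>
      rw [show c ⊗ₜ[R] x = (c ⊗ₜ 1) * (1 ⊗ₜ x) by simp, map_mul, map_mul, h1, h2, ← map_mul]
      simp
  have kB : ∀ z, mB (e z) = eB (fB.lTensor C z) := key fB e eB mB hB1 hB2
  have kA : ∀ z, mA' (e z) = eA' (fA.lTensor C z) := key fA e eA' mA' hA1 hA2
  have lB : ∀ z, nB (eB z) = eA (gB.lTensor C z) := key gB eB eA nB kB1 kB2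
  have lA : ∀ z, nA' (eA' z) = eA (gA.lTensor C z) := key gA eA' eA nA' kA1 kA2
  have hinj := LinearMap.lTensor_injective_of_exact_of_flat (Groth.Agent.Milnor.diffMap R B A' A)
    (Groth.Agent.Milnor.diffMap_surjective hsq) _ (Groth.Agent.Milnor.pairMap_injective hsq)
    (Groth.Agent.Milnor.exact_pairMap hsq) C
  have hex := lTensor_exact C (Groth.Agent.Milnor.exact_pairMap (R := R) hsq)
    (Groth.Agent.Milnor.diffMap_surjective (R := R) hsq)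
  have hpair : ∀ z, TensorProduct.prodRight R R C B A' ((Groth.Agent.Milnor.pairMap R B' B A').lTensor C z) =
      (fB.lTensor C z, fA.lTensor C z) := fun z => by
    induction z with
    | zero => simp only [map_zero]; rfl
    | add a b ha hb => simp only [map_add, ha, hb, Prod.mk_add_mk]
    | tmul c b => simp [Groth.Agent.Milnor.pairMap, fB, fA]
  have hdiff : ∀ w, (Groth.Agent.Milnor.diffMap R B A' A).lTensor C w =
      gB.lTensor C (TensorProduct.prodRight R R C B A' w).1 -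
        gA.lTensor C (TensorProduct.prodRight R R C B A' w).2 := fun w => by
    induction w with
    | zero => simp
    | add a b ha hb => simp only [map_add, Prod.fst_add, Prod.snd_add, ha, hb]; abel
    | tmul c p => simp [Groth.Agent.Milnor.diffMap, gB, gA, TensorProduct.tmul_sub]
  obtain ⟨zb, rfl⟩ := heB.2 b
  obtain ⟨za, rfl⟩ := heA'.2 a'
  rw [lB, lA] at h
  obtain ⟨z, hz⟩ := (hex ((TensorProduct.prodRight R R C B A').symm (zb, za))).1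
    (by rw [hdiff, LinearEquiv.apply_symm_apply]; exact sub_eq_zero.2 (heA h))
  have hz' := hpair z
  rw [hz, LinearEquiv.apply_symm_apply, Prod.mk.injEq] at hz'
  refine ⟨e z, ⟨by rw [kB, ← hz'.1], by rw [kA, ← hz'.2]⟩, fun x hx => ?_⟩
  obtain ⟨w, rfl⟩ := he x
  congr 1
  apply hinj
  apply (TensorProduct.prodRight R R C B A').injective
  rw [hpair, hpair, ← hz'.1, ← hz'.2, Prod.mk.injEq]
  exact ⟨heB.1 (by rw [← kB, hx.1]), heA'.1 (by rw [← kA, hx.2])⟩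

theorem isPullback_lift {X Y S T : Scheme.{u}} (h : Y ⟶ X) (f : X ⟶ S) (k : Y ⟶ S) (hk : h ≫ f = k) (g : T ⟶ S)
    (j : pullback k g ⟶ pullback f g) (h₁ : j ≫ pullback.fst f g = pullback.fst k g ≫ h)
    (h₂ : j ≫ pullback.snd f g = pullback.snd k g) :
    IsPullback (pullback.fst k g) j h (pullback.fst f g) := by
  subst hk
  refine IsPullback.of_bot ?_ h₁.symm (IsPullback.of_hasPullback f g)
  rw [h₂]
  exact IsPullback.of_hasPullback (h ≫ f) g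

set_option backward.isDefEq.respectTransparency false in
theorem isAffineOpen_inf {X Y S : Scheme.{u}} (f : X ⟶ S) (g : Y ⟶ S) {U : X.Opens} {W : Y.Opens} {V : S.Opens}
    (hU : IsAffineOpen U) (hW : IsAffineOpen W) (hV : IsAffineOpen V) (hUV : U ≤ f ⁻¹ᵁ V) (hWV : W ≤ g ⁻¹ᵁ V) :
    IsAffineOpen (pullback.fst f g ⁻¹ᵁ U ⊓ pullback.snd f g ⁻¹ᵁ W) := by
  haveI : IsAffine U.toScheme := hU
  haveI : IsAffine W.toScheme := hW
  haveI : IsAffine V.toScheme := hV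
  haveI : IsAffine (pullback (U.ι ≫ f) (W.ι ≫ g)) := by
    let α := f.resLE V U hUV
    let β := g.resLE V W hWV
    have hα : α ≫ V.ι = U.ι ≫ f := Scheme.Hom.resLE_comp_ι ..
    have hβ : β ≫ V.ι = W.ι ≫ g := Scheme.Hom.resLE_comp_ι ..
    let m : pullback α β ⟶ pullback (U.ι ≫ f) (W.ι ≫ g) :=
      pullback.lift (pullback.fst _ _) (pullback.snd _ _) (by rw [← hα, ← hβ, pullback.condition_assoc])
    let m' : pullback (U.ι ≫ f) (W.ι ≫ g) ⟶ pullback α β :=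
      pullback.lift (pullback.fst _ _) (pullback.snd _ _)
        (by rw [← cancel_mono V.ι, Category.assoc, Category.assoc, hα, hβ, pullback.condition])
    haveI : IsIso m' := ⟨m, by apply pullback.hom_ext <;> simp [m, m'],
      by apply pullback.hom_ext <;> simp [m, m']⟩
    exact IsAffine.of_isIso m'
  let j : pullback (U.ι ≫ f) (W.ι ≫ g) ⟶ pullback f g :=
    pullback.map _ _ _ _ U.ι W.ι (𝟙 S) (by simp) (by simp)
  have h : j.opensRange = pullback.fst f g ⁻¹ᵁ U ⊓ pullback.snd f g ⁻¹ᵁ W := by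
    apply TopologicalSpace.Opens.ext
    simp [j, Scheme.Pullback.range_map]
  rw [← h]
  exact isAffineOpen_opensRange j

variable {S X Z Z' X' T : Scheme.{u}} (fX : X ⟶ S) (fZ : Z ⟶ S) (fZ' : Z' ⟶ S) (fX' : X' ⟶ S)
  (ι : Z ⟶ X) (q : Z ⟶ Z') (π : X ⟶ X') (ι' : Z' ⟶ X') (g : T ⟶ S)
  (jT : pullback fZ g ⟶ pullback fX g) (qT : pullback fZ g ⟶ pullback fZ' g)
  (πT : pullback fX g ⟶ pullback fX' g) (ιT : pullback fZ' g ⟶ pullback fX' g)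

set_option maxHeartbeats 1000000 in
theorem secAt_box [IsClosedImmersion ι] [IsClosedImmersion ι'] [IsAffineHom q] [IsAffineHom π]
    (hq : q ≫ fZ' = fZ) (hπ : π ≫ fX' = fX) (hι' : ι' ≫ fX' = fZ') (hι : ι ≫ fX = fZ)
    (hw : ι ≫ π = q ≫ ι') (hsec : ∀ U, SecAt ι q π ι' hw U) [Flat fZ]
    (hj₁ : jT ≫ pullback.fst fX g = pullback.fst fZ g ≫ ι) (hj₂ : jT ≫ pullback.snd fX g = pullback.snd fZ g)
    (hq₁ : qT ≫ pullback.fst fZ' g = pullback.fst fZ g ≫ q) (hq₂ : qT ≫ pullback.snd fZ' g = pullback.snd fZ g)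
    (hπ₁ : πT ≫ pullback.fst fX' g = pullback.fst fX g ≫ π) (hπ₂ : πT ≫ pullback.snd fX' g = pullback.snd fX g)
    (hι₁ : ιT ≫ pullback.fst fX' g = pullback.fst fZ' g ≫ ι') (hι₂ : ιT ≫ pullback.snd fX' g = pullback.snd fZ' g)
    (hwT : jT ≫ πT = qT ≫ ιT)
    {V : S.Opens} (hV : IsAffineOpen V) {U : X'.Opens} (hU : IsAffineOpen U) (eU : U ≤ fX' ⁻¹ᵁ V)
    {W : T.Opens} (hW : IsAffineOpen W) (eW : W ≤ g ⁻¹ᵁ V) :
    SecAt jT qT πT ιT hwT (pullback.fst fX' g ⁻¹ᵁ U ⊓ pullback.snd fX' g ⁻¹ᵁ W) := by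
  have hπU := hU.preimage π
  have hι'U := hU.preimage ι'
  have hZU := hπU.preimage ι
  have eX : π ⁻¹ᵁ U ≤ fX ⁻¹ᵁ V := by
    rw [← hπ, Scheme.Hom.comp_preimage]; exact Scheme.Hom.preimage_mono π eU
  have eZ' : ι' ⁻¹ᵁ U ≤ fZ' ⁻¹ᵁ V := by
    rw [← hι', Scheme.Hom.comp_preimage]; exact Scheme.Hom.preimage_mono ι' eU
  have eZ : ι ⁻¹ᵁ π ⁻¹ᵁ U ≤ fZ ⁻¹ᵁ V := by
    rw [← hι, Scheme.Hom.comp_preimage]; exact Scheme.Hom.preimage_mono ι eX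
  let α : Γ(X', U) ⟶ Γ(X, π ⁻¹ᵁ U) := π.appLE U _ le_rfl
  let β : Γ(X', U) ⟶ Γ(Z', ι' ⁻¹ᵁ U) := ι'.appLE U _ le_rfl
  let a : Γ(X, π ⁻¹ᵁ U) ⟶ Γ(Z, ι ⁻¹ᵁ π ⁻¹ᵁ U) := ι.appLE _ _ le_rfl
  let c : Γ(Z', ι' ⁻¹ᵁ U) ⟶ Γ(Z, ι ⁻¹ᵁ π ⁻¹ᵁ U) := q.appLE _ _ (preimage_le hw U)
  let r : Γ(S, V) ⟶ Γ(X', U) := fX'.appLE V U eU
  have hac : α ≫ a = β ≫ c := by
    simp only [α, β, a, c, Scheme.Hom.appLE_comp_appLE, hw]
  algebraize [r.hom, α.hom, β.hom, a.hom, c.hom, (α ≫ a).hom, (r ≫ α).hom, (r ≫ β).hom, (r ≫ α ≫ a).hom]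
  have h₁ : IsScalarTower Γ(X', U) Γ(Z', ι' ⁻¹ᵁ U) Γ(Z, ι ⁻¹ᵁ π ⁻¹ᵁ U) :=
    .of_algebraMap_eq' (congrArg CommRingCat.Hom.hom hac)
  have h₀ : IsScalarTower Γ(X', U) Γ(X, π ⁻¹ᵁ U) Γ(Z, ι ⁻¹ᵁ π ⁻¹ᵁ U) :=
    .of_algebraMap_eq' rfl
  have h₂ : IsScalarTower Γ(S, V) Γ(Z', ι' ⁻¹ᵁ U) Γ(Z, ι ⁻¹ᵁ π ⁻¹ᵁ U) :=
    .of_algebraMap_eq' (congrArg CommRingCat.Hom.hom (show r ≫ α ≫ a = (r ≫ β) ≫ c by rw [hac, Category.assoc]))
  have h₃ : IsScalarTower Γ(S, V) Γ(X', U) Γ(Z', ι' ⁻¹ᵁ U) := .of_algebraMap_eq' rfl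
  have h₄ : IsScalarTower Γ(S, V) Γ(X', U) Γ(X, π ⁻¹ᵁ U) := .of_algebraMap_eq' rfl
  have h₅ : IsScalarTower Γ(S, V) Γ(X, π ⁻¹ᵁ U) Γ(Z, ι ⁻¹ᵁ π ⁻¹ᵁ U) := .of_algebraMap_eq' rfl
  have hα : α = π.app U := Scheme.Hom.appLE_eq_app _
  have hβ : β = ι'.app U := Scheme.Hom.appLE_eq_app _
  have ha : a = ι.app _ := Scheme.Hom.appLE_eq_app _
  have hsq : EtMil.IsFibreSquare Γ(X', U) Γ(Z', ι' ⁻¹ᵁ U) Γ(X, π ⁻¹ᵁ U) Γ(Z, ι ⁻¹ᵁ π ⁻¹ᵁ U) := by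
    refine ⟨fun z => ?_, fun x y hxy => ?_⟩
    · obtain ⟨x, hx⟩ := ι.app_surjective _ hπU z
      exact ⟨x, by change a x = z; rw [ha]; exact hx⟩
    · obtain ⟨w, ⟨h1, h2⟩, huniq⟩ := hsec U y x (by
        have h3 : c x = a y := hxy
        rw [ha] at h3
        exact h3.symm)
      refine ⟨w, ⟨?_, ?_⟩, fun w' hw' => huniq w' ⟨?_, ?_⟩⟩
      · change β w = x; rw [hβ]; exact h2
      · change α w = y; rw [hα]; exact h1
      · rw [← hα]; exact hw'.2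
      · rw [← hβ]; exact hw'.1
  have : Module.Flat Γ(S, V) Γ(Z, ι ⁻¹ᵁ π ⁻¹ᵁ U) := by
    have key : r ≫ α ≫ a = fZ.appLE V _ eZ := by
      simp only [r, α, a, Scheme.Hom.appLE_comp_appLE, Category.assoc, hπ, hι]
    have := fZ.flat_appLE hV hZU eZ
    rw [← key] at this
    exact this
  let : Algebra Γ(S, V) Γ(T, W) := (g.appLE V W eW).hom.toAlgebra
  set O := pullback.fst fX' g ⁻¹ᵁ U ⊓ pullback.snd fX' g ⁻¹ᵁ W with hO
  have hOX : πT ⁻¹ᵁ O = pullback.fst fX g ⁻¹ᵁ (π ⁻¹ᵁ U) ⊓ pullback.snd fX g ⁻¹ᵁ W := by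
    rw [show πT ⁻¹ᵁ O = (πT ≫ pullback.fst fX' g) ⁻¹ᵁ U ⊓ (πT ≫ pullback.snd fX' g) ⁻¹ᵁ W from rfl, hπ₁, hπ₂]
    rfl
  have hOZ' : ιT ⁻¹ᵁ O = pullback.fst fZ' g ⁻¹ᵁ (ι' ⁻¹ᵁ U) ⊓ pullback.snd fZ' g ⁻¹ᵁ W := by
    rw [show ιT ⁻¹ᵁ O = (ιT ≫ pullback.fst fX' g) ⁻¹ᵁ U ⊓ (ιT ≫ pullback.snd fX' g) ⁻¹ᵁ W from rfl, hι₁, hι₂]
    rfl
  have hOZ : jT ⁻¹ᵁ πT ⁻¹ᵁ O = pullback.fst fZ g ⁻¹ᵁ (ι ⁻¹ᵁ π ⁻¹ᵁ U) ⊓ pullback.snd fZ g ⁻¹ᵁ W := by
    rw [hOX, show jT ⁻¹ᵁ (pullback.fst fX g ⁻¹ᵁ (π ⁻¹ᵁ U) ⊓ pullback.snd fX g ⁻¹ᵁ W) =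
      (jT ≫ pullback.fst fX g) ⁻¹ᵁ (π ⁻¹ᵁ U) ⊓ (jT ≫ pullback.snd fX g) ⁻¹ᵁ W from rfl, hj₁, hj₂]
    rfl
  obtain ⟨E, hE, hE₁, hE₂⟩ := GrothLib.RingedPush4.exists_tensor_map_affine (IsPullback.of_hasPullback fX' g) hV hW hU eW eU
    (UY := O) hO rfl rfl
  obtain ⟨EX, hEX, hEX₁, hEX₂⟩ := GrothLib.RingedPush4.exists_tensor_map_affine (IsPullback.of_hasPullback fX g) hV hW hπU eW eX
    (UY := πT ⁻¹ᵁ O) hOX (show (r ≫ α).hom = _ by simp only [r, α, Scheme.Hom.appLE_comp_appLE, hπ]) rfl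
  obtain ⟨EZ', hEZ', hEZ'₁, hEZ'₂⟩ := GrothLib.RingedPush4.exists_tensor_map_affine (IsPullback.of_hasPullback fZ' g) hV hW hι'U eW eZ'
    (UY := ιT ⁻¹ᵁ O) hOZ' (show (r ≫ β).hom = _ by simp only [r, β, Scheme.Hom.appLE_comp_appLE, hι']) rfl
  obtain ⟨EZ, hEZ, hEZ₁, hEZ₂⟩ := GrothLib.RingedPush4.exists_tensor_map_affine (IsPullback.of_hasPullback fZ g) hV hW hZU eW eZ
    (UY := jT ⁻¹ᵁ πT ⁻¹ᵁ O) hOZ
    (show (r ≫ α ≫ a).hom = _ by simp only [r, α, a, Scheme.Hom.appLE_comp_appLE, Category.assoc, hπ, hι]) rfl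
  intro b c' hbc
  have := existsUnique_of_pushouts hsq E hE.2 EZ' hEZ' EX hEX EZ hEZ.1
    (ιT.appLE O (ιT ⁻¹ᵁ O) le_rfl).hom (πT.appLE O (πT ⁻¹ᵁ O) le_rfl).hom
    (qT.appLE (ιT ⁻¹ᵁ O) (jT ⁻¹ᵁ πT ⁻¹ᵁ O) (preimage_le hwT O)).hom
    (jT.appLE (πT ⁻¹ᵁ O) (jT ⁻¹ᵁ πT ⁻¹ᵁ O) le_rfl).hom ?_ ?_ ?_ ?_ ?_ ?_ ?_ ?_ c' b ?_
  · obtain ⟨x, ⟨hx₁, hx₂⟩, huniq⟩ := this
    refine ⟨x, ⟨?_, ?_⟩, fun y hy => huniq y ⟨?_, ?_⟩⟩
    · rw [Scheme.Hom.app_eq_appLE]; exact hx₂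
    · rw [Scheme.Hom.app_eq_appLE]; exact hx₁
    · change ιT.appLE O _ le_rfl y = c'
      rw [← Scheme.Hom.app_eq_appLE]; exact hy.2
    · change πT.appLE O _ le_rfl y = b
      rw [← Scheme.Hom.app_eq_appLE]; exact hy.1
  · intro z
    rw [hE₁, hEZ'₁, ← CommRingCat.comp_apply, Scheme.Hom.appLE_comp_appLE]
    simp only [hι₂]
  · intro z
    rw [hE₂, hEZ'₂]
    change _ = (pullback.fst fZ' g).appLE _ _ _ (β z)
    simp only [β, ← CommRingCat.comp_apply, Scheme.Hom.appLE_comp_appLE, hι₁]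
  · intro z
    rw [hE₁, hEX₁, ← CommRingCat.comp_apply, Scheme.Hom.appLE_comp_appLE]
    simp only [hπ₂]
  · intro z
    rw [hE₂, hEX₂]
    change _ = (pullback.fst fX g).appLE _ _ _ (α z)
    simp only [α, ← CommRingCat.comp_apply, Scheme.Hom.appLE_comp_appLE, hπ₁]
  · intro z
    rw [hEZ'₁, hEZ₁, ← CommRingCat.comp_apply, Scheme.Hom.appLE_comp_appLE]
    simp only [hq₂]
  · intro z
    rw [hEZ'₂, hEZ₂]
    change _ = (pullback.fst fZ g).appLE _ _ _ (c z)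
    simp only [c, ← CommRingCat.comp_apply, Scheme.Hom.appLE_comp_appLE, hq₁]
  · intro z
    rw [hEX₁, hEZ₁, ← CommRingCat.comp_apply, Scheme.Hom.appLE_comp_appLE]
    simp only [hj₂]
  · intro z
    rw [hEX₂, hEZ₂]
    change _ = (pullback.fst fZ g).appLE _ _ _ (a z)
    simp only [a, ← CommRingCat.comp_apply, Scheme.Hom.appLE_comp_appLE, hj₁]
  · change qT.appLE _ _ _ c' = jT.appLE _ _ le_rfl b
    rw [← hbc, Scheme.Hom.app_eq_appLE]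

theorem isPushout_baseChange [IsClosedImmersion ι] [IsClosedImmersion ι'] [IsAffineHom q] [IsAffineHom π]
    (hq : q ≫ fZ' = fZ) (hπ : π ≫ fX' = fX) (hι' : ι' ≫ fX' = fZ') (hι : ι ≫ fX = fZ) [Flat fZ]
    (hpo : IsPushout ((Scheme.forgetToLocallyRingedSpace ⋙ LocallyRingedSpace.forgetToSheafedSpace).map ι) ((Scheme.forgetToLocallyRingedSpace ⋙ LocallyRingedSpace.forgetToSheafedSpace).map q)
      ((Scheme.forgetToLocallyRingedSpace ⋙ LocallyRingedSpace.forgetToSheafedSpace).map π) ((Scheme.forgetToLocallyRingedSpace ⋙ LocallyRingedSpace.forgetToSheafedSpace).map ι'))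
    (hj₁ : jT ≫ pullback.fst fX g = pullback.fst fZ g ≫ ι) (hj₂ : jT ≫ pullback.snd fX g = pullback.snd fZ g)
    (hq₁ : qT ≫ pullback.fst fZ' g = pullback.fst fZ g ≫ q) (hq₂ : qT ≫ pullback.snd fZ' g = pullback.snd fZ g)
    (hπ₁ : πT ≫ pullback.fst fX' g = pullback.fst fX g ≫ π) (hπ₂ : πT ≫ pullback.snd fX' g = pullback.snd fX g)
    (hι₁ : ιT ≫ pullback.fst fX' g = pullback.fst fZ' g ≫ ι') (hι₂ : ιT ≫ pullback.snd fX' g = pullback.snd fZ' g) :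
    IsPushout ((Scheme.forgetToLocallyRingedSpace ⋙ LocallyRingedSpace.forgetToSheafedSpace).map jT) ((Scheme.forgetToLocallyRingedSpace ⋙ LocallyRingedSpace.forgetToSheafedSpace).map qT)
      ((Scheme.forgetToLocallyRingedSpace ⋙ LocallyRingedSpace.forgetToSheafedSpace).map πT) ((Scheme.forgetToLocallyRingedSpace ⋙ LocallyRingedSpace.forgetToSheafedSpace).map ιT) := by
  have hw : ι ≫ π = q ≫ ι' := by
    have := hpo.w
    rw [← Functor.map_comp, ← Functor.map_comp] at this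
    exact (Scheme.forgetToLocallyRingedSpace ⋙ LocallyRingedSpace.forgetToSheafedSpace).map_injective this
  have : IsClosedImmersion jT :=
    MorphismProperty.of_isPullback (isPullback_lift ι fX fZ hι g jT hj₁ hj₂) inferInstance
  have : IsClosedImmersion ιT :=
    MorphismProperty.of_isPullback (isPullback_lift ι' fX' fZ' hι' g ιT hι₁ hι₂) inferInstance
  have : IsAffineHom qT :=
    MorphismProperty.of_isPullback (isPullback_lift q fZ' fZ hq g qT hq₁ hq₂) inferInstance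
  have : IsAffineHom πT :=
    MorphismProperty.of_isPullback (isPullback_lift π fX' fX hπ g πT hπ₁ hπ₂) inferInstance
  have hwT : jT ≫ πT = qT ≫ ιT := by
    apply pullback.hom_ext
    · rw [Category.assoc, Category.assoc, hπ₁, hι₁, ← Category.assoc, ← Category.assoc, hj₁, hq₁,
        Category.assoc, Category.assoc, hw]
    · rw [Category.assoc, Category.assoc, hπ₂, hι₂, hj₂, hq₂]
  refine isPushout_sheafedSpace hwT (secAt_of_basis hwT fun O y hy => ?_)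
  obtain ⟨_, ⟨V, hV, rfl⟩, hyV, -⟩ := S.isBasis_affineOpens.exists_subset_of_mem_open
    (Set.mem_univ ((pullback.fst fX' g ≫ fX') y)) isOpen_univ
  obtain ⟨_, ⟨U, hU, rfl⟩, hyU, hUV⟩ := X'.isBasis_affineOpens.exists_subset_of_mem_open
    (show pullback.fst fX' g y ∈ ((fX' ⁻¹ᵁ V : X'.Opens) : Set X') from hyV) (fX' ⁻¹ᵁ V).2
  obtain ⟨_, ⟨W, hW, rfl⟩, hyW, hWV⟩ := T.isBasis_affineOpens.exists_subset_of_mem_open
    (show pullback.snd fX' g y ∈ ((g ⁻¹ᵁ V : T.Opens) : Set T) from by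
      change g _ ∈ V
      rw [← Scheme.Hom.comp_apply, ← pullback.condition]
      exact hyV) (g ⁻¹ᵁ V).2
  obtain ⟨p, hp, hyp⟩ := (isAffineOpen_inf fX' g hU hW hV hUV hWV).exists_basicOpen_le ⟨y, hy⟩
    (show y ∈ pullback.fst fX' g ⁻¹ᵁ U ⊓ pullback.snd fX' g ⁻¹ᵁ W from ⟨hyU, hyW⟩)
  exact ⟨_, hyp, hp, secAt_basicOpen hwT (isAffineOpen_inf fX' g hU hW hV hUV hWV)
    (secAt_box fX fZ fZ' fX' ι q π ι' g jT qT πT ιT hq hπ hι' hι hw (SecAt.of_pushout hw hpo) hj₁ hj₂ hq₁ hq₂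
      hπ₁ hπ₂ hι₁ hι₂ hwT hV hU hUV hW hWV) p⟩

end GrothLib.RingedPush29
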